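import Groth.Agent.RGFlatLib.Fibre

/-!
# Flatness from finitely many points detecting the fibre, Noetherian case
-/

set_option autoImplicit false
set_option linter.style.haveILetI false
set_option linter.unusedSectionVars false
set_option maxHeartbeats 1000000
set_option backward.isDefEq.respectTransparency false

universe u

open MvPolynomial Groth.Agent.GenFree Groth.Agent.FlatLocus

noncomputable section

namespace Groth.Agent.FlatAssLib

variable {A : Type u} [CommRing A] [IsNoetherianRing A] {a n : ℕ}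

/-- Generators of an ideal at a prime, independent modulo a smaller ideal. -/
theorem exists_indep_generators (p : Ideal A) [p.IsPrime] (I J : Ideal A) (hI : I.FG) :
    ∃ s : Finset A, (∀ g ∈ s, g ∈ I) ∧ (∀ b ∈ I, ∃ d ∉ p, d * b ∈ Ideal.span (s : Set A) ⊔ J) ∧
      ∀ c : A → A, ∑ g ∈ s, g * c g ∈ J → ∀ g ∈ s, c g ∈ p := by
  classical
  let good : ℕ → Prop := fun k => ∃ s : Finset A, s.card = k ∧ (∀ g ∈ s, g ∈ I) ∧
    ∀ b ∈ I, ∃ d ∉ p, d * b ∈ Ideal.span (s : Set A) ⊔ J
  have hgood : ∃ k, good k := by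
    obtain ⟨s, rfl⟩ := hI
    exact ⟨_, s, rfl, fun g hg => Ideal.subset_span hg, fun b hb =>
      ⟨1, (Ideal.ne_top_iff_one p).mp (Ideal.IsPrime.ne_top ‹_›), by rw [one_mul]; exact Ideal.mem_sup_left hb⟩⟩
  obtain ⟨s, hcard, hmem, hspan⟩ := Nat.find_spec hgood
  refine ⟨s, hmem, hspan, fun c hc g hg => by_contra fun hgp => ?_⟩
  refine Nat.find_min hgood (m := (s.erase g).card) (by rw [← hcard]; exact Finset.card_erase_lt_of_mem hg)
    ⟨s.erase g, rfl, fun x hx => hmem x (Finset.mem_of_mem_erase hx), fun b hb => ?_⟩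
  obtain ⟨d, hd, hdb⟩ := hspan b hb
  refine ⟨c g * d, fun h => (Ideal.IsPrime.mem_or_mem ‹_› h).elim hgp hd, ?_⟩
  have hcg : c g * g ∈ Ideal.span ((s.erase g : Finset A) : Set A) ⊔ J := by
    rw [← Finset.add_sum_erase s _ hg] at hc
    have h1 : ∑ x ∈ s.erase g, x * c x ∈ Ideal.span ((s.erase g : Finset A) : Set A) :=
      sum_mem fun x hx => Ideal.mul_mem_right _ _ (Ideal.subset_span hx)
    have := sub_mem (Ideal.mem_sup_right hc : g * c g + ∑ x ∈ s.erase g, x * c x ∈
      Ideal.span ((s.erase g : Finset A) : Set A) ⊔ J) (Ideal.mem_sup_left h1)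
    rwa [add_sub_cancel_right, mul_comm] at this
  obtain ⟨x, hx, j, hj, hxj⟩ := Submodule.mem_sup.mp hdb
  rw [mul_assoc, ← hxj, mul_add]
  refine add_mem ?_ (Ideal.mem_sup_right (J.mul_mem_left _ hj))
  clear hxj
  induction hx using Submodule.span_induction with
  | mem y hy =>
    rcases eq_or_ne y g with rfl | hne
    · exact hcg
    · exact Ideal.mem_sup_left (Ideal.mul_mem_left _ _ (Ideal.subset_span (Finset.mem_erase.mpr ⟨hne, hy⟩)))
  | zero => rw [mul_zero]; exact zero_mem _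
  | add y z _ _ hy hz => rw [mul_add]; exact add_mem hy hz
  | smul r y _ hy => rw [smul_eq_mul, mul_left_comm]; exact Ideal.mul_mem_left _ r hy

omit [IsNoetherianRing A] in
/-- Vectors with coefficients near a span decompose. -/
theorem exists_smul_eq_sum (p : Ideal A) [p.IsPrime] {I J : Ideal A} {s : Finset A}
    (hspan : ∀ b ∈ I, ∃ d ∉ p, d * b ∈ Ideal.span (s : Set A) ⊔ J) {y : FreeMod A a n} (hy : y ∈ cf I) :
    ∃ d ∉ p, ∃ v : A → FreeMod A a n, d • y - ∑ g ∈ s, g • v g ∈ cf J := by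
  classical
  let T := (finite_support y).toFinset
  choose d hd hdy using fun i => hspan (co i y) (mem_cf.mp hy i)
  choose x hx j hj hxj using fun i => Submodule.mem_sup.mp (hdy i)
  choose r hr using fun i => Submodule.mem_span_finset.mp (hx i)
  let D := ∏ i ∈ T, d i
  have hD : D ∉ p := fun h => by
    obtain ⟨i, -, hi⟩ := (Ideal.IsPrime.prod_mem_iff (p := p)).mp h
    exact hd i hi
  refine ⟨D, hD, fun g => ∑ i ∈ T, ((∏ k ∈ T.erase i, d k) * r i g) • single i, mem_cf.mpr fun i => ?_⟩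
  simp only [map_sub, map_smul, map_sum, co_single, smul_eq_mul, mul_ite, mul_one, mul_zero, Finset.sum_ite_eq']
  by_cases hi : i ∈ T
  · have h1 : ∑ g ∈ s, g * ((∏ k ∈ T.erase i, d k) * r i g) = (∏ k ∈ T.erase i, d k) * x i := by
      rw [← (hr i).2, Finset.mul_sum]
      exact Finset.sum_congr rfl fun g _ => by rw [smul_eq_mul]; ring
    simp only [if_pos hi]
    rw [h1, show D * co i y = (∏ k ∈ T.erase i, d k) * (d i * co i y) by
      rw [← mul_assoc, Finset.prod_erase_mul _ _ hi], ← hxj i, ← mul_sub, add_sub_cancel_left]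
    exact J.mul_mem_left _ (hj i)
  · have h0 : co i y = 0 := by
      by_contra h
      exact hi ((finite_support y).mem_toFinset.mpr h)
    simp only [if_neg hi, h0, mul_zero, Finset.sum_const_zero, sub_zero]
    exact zero_mem _

omit [IsNoetherianRing A] in
theorem cf_eq_smul_top (I : Ideal A) :
    (cf I : Submodule (MvPolynomial (Fin n) A) (FreeMod A a n)) = I.map (C : A →+* MvPolynomial (Fin n) A) • ⊤ := by
  refine le_antisymm (fun y hy => ?_) (Submodule.smul_le.mpr fun j hj y _ => ?_)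
  · simp only [cf, Submodule.mem_pi, Set.mem_univ, forall_true_left] at hy
    rw [pi_eq_sum_univ y]
    exact Submodule.sum_mem _ fun i _ => Submodule.smul_mem_smul (hy i) trivial
  · simp only [cf, Submodule.mem_pi, Set.mem_univ, forall_true_left]
    exact fun i => Ideal.mul_mem_right _ _ hj

omit [IsNoetherianRing A] in
theorem exists_smul_eq_of_smul_span {K : Submodule (MvPolynomial (Fin n) A) (FreeMod A a n)} (p : Ideal A) [p.IsPrime]
    {I J : Ideal A} {s : Finset A} (hspan : ∀ b ∈ I, ∃ d ∉ p, d * b ∈ Ideal.span (s : Set A) ⊔ J)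
    {z : FreeMod A a n} (hz : z ∈ I.map (C : A →+* MvPolynomial (Fin n) A) • K) :
    ∃ e ∉ p, ∃ k : A → FreeMod A a n, (∀ g, k g ∈ K) ∧ e • z - ∑ g ∈ s, g • k g ∈ cf J := by
  classical
  let Pr : FreeMod A a n → Prop := fun z => ∃ e ∉ p, ∃ k : A → FreeMod A a n, (∀ g, k g ∈ K) ∧
    e • z - ∑ g ∈ s, g • k g ∈ cf J
  suffices key : (∀ w ∈ K, ∀ b ∈ I, Pr ((C b : MvPolynomial (Fin n) A) • w)) ∧
      (∀ c : MvPolynomial (Fin n) A, ∀ z, Pr z → Pr (c • z)) ∧ (∀ z₁ z₂, Pr z₁ → Pr z₂ → Pr (z₁ + z₂)) ∧ Pr 0 by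
    obtain ⟨k1, k2, k3, k4⟩ := key
    refine Submodule.smul_induction_on hz (p := Pr) (fun r hr w hw => ?_) k3
    induction hr using Submodule.span_induction generalizing w with
    | mem r hr => obtain ⟨b, hb, rfl⟩ := hr; exact k1 w hw b hb
    | zero => rw [zero_smul]; exact k4
    | add r r' _ _ h h' => rw [add_smul]; exact k3 _ _ (h w hw) (h' w hw)
    | smul c r _ h => rw [smul_eq_mul, mul_smul]; exact k2 c _ (h w hw)
  refine ⟨?_, ?_, ?_, ?_⟩
  · intro w hw b hb
    obtain ⟨d, hd, hdb⟩ := hspan b hb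
    obtain ⟨x, hx, j, hj, hxj⟩ := Submodule.mem_sup.mp hdb
    obtain ⟨r, -, hr⟩ := Submodule.mem_span_finset.mp hx
    refine ⟨d, hd, fun g => r g • w, fun g => Submodule.smul_of_tower_mem _ _ hw, ?_⟩
    rw [show d • (C b : MvPolynomial (Fin n) A) • w = (d * b) • w by
      rw [show (C b : MvPolynomial (Fin n) A) • w = b • w from algebraMap_smul _ b w, smul_smul], ← hxj, add_smul,
      ← hr, Finset.sum_smul]
    refine mem_cf.mpr fun i => ?_
    simp only [map_sub, map_add, map_sum, map_smul, smul_eq_mul]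
    rw [show (∑ g ∈ s, r g * g * co i w) = ∑ g ∈ s, g * (r g * co i w) from
      Finset.sum_congr rfl fun g _ => by ring, add_sub_cancel_left]
    exact J.mul_mem_right _ hj
  · rintro c z ⟨e, he, k, hk, h⟩
    refine ⟨e, he, fun g => c • k g, fun g => K.smul_mem _ (hk g), ?_⟩
    have := (cf (a := a) J).smul_mem c h
    rw [smul_sub, Finset.smul_sum, smul_comm c e] at this
    simp only [smul_comm c] at this
    exact this
  · rintro z₁ z₂ ⟨e₁, he₁, k₁, hk₁, h₁⟩ ⟨e₂, he₂, k₂, hk₂, h₂⟩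
    refine ⟨e₁ * e₂, fun h => (Ideal.IsPrime.mem_or_mem ‹_› h).elim he₁ he₂, fun g => e₂ • k₁ g + e₁ • k₂ g,
      fun g => add_mem (Submodule.smul_of_tower_mem _ _ (hk₁ g)) (Submodule.smul_of_tower_mem _ _ (hk₂ g)), ?_⟩
    refine mem_cf.mpr fun i => ?_
    have h1 := J.mul_mem_left e₂ (mem_cf.mp h₁ i)
    have h2 := J.mul_mem_left e₁ (mem_cf.mp h₂ i)
    have := add_mem h1 h2
    simp only [map_sub, map_add, map_sum, map_smul, smul_eq_mul] at this ⊢
    convert this using 1
    rw [mul_sub, mul_sub, Finset.mul_sum, Finset.mul_sum, sub_add_sub_comm, ← Finset.sum_add_distrib]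
    congr 1
    · ring
    · exact Finset.sum_congr rfl fun g _ => by ring
  · exact ⟨1, (Ideal.ne_top_iff_one p).mp (Ideal.IsPrime.ne_top ‹_›), 0, fun _ => zero_mem _, by simp⟩

/-- Flatness at `q` from flatness at finitely many points detecting the fibre at `q`. -/
theorem mem_flatSet_of_detect (K : Submodule (MvPolynomial (Fin n) A) (FreeMod A a n))
    (q : PrimeSpectrum (MvPolynomial (Fin n) A)) (W : Set (PrimeSpectrum (MvPolynomial (Fin n) A)))
    (hW : ∀ w ∈ W, w ∈ flatSet K) (hWp : ∀ w ∈ W, w.asIdeal.comap C = q.asIdeal.comap C)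
    (hD : ∀ v, (∀ w ∈ W, v ∈ Sat w.asIdeal.primeCompl (K ⊔ cf (q.asIdeal.comap C))) →
      v ∈ Sat q.asIdeal.primeCompl (K ⊔ cf (q.asIdeal.comap C))) :
    q ∈ flatSet K := by
  classical
  let P := MvPolynomial (Fin n) A
  let p := q.asIdeal.comap (C : A →+* P)
  let T := q.asIdeal.primeCompl
  have hp : ∀ d ∉ p, (C d : P) ∈ T := fun d hd => hd
  have step : ∀ m : ℕ, 0 < m → K ⊓ cf (p ^ m) ≤ Sat T (p.map (C : A →+* P) • K ⊔ (K ⊓ cf (p ^ (m + 1)))) := by
    intro m hm y hy
    obtain ⟨hyK, hyI⟩ := hy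
    obtain ⟨s, hs, hspan, hindep⟩ := exists_indep_generators p (p ^ m) (p ^ (m + 1)) (IsNoetherian.noetherian _)
    obtain ⟨d, hd, v, hv⟩ := exists_smul_eq_sum p hspan hyI
    have hvW : ∀ w ∈ W, ∀ g ∈ s, v g ∈ Sat w.asIdeal.primeCompl (K ⊔ cf p) := by
      intro w hw g hg
      obtain ⟨t, ht, htK⟩ := mem_flatSet_iff.mp (hW w hw) (p ^ m) ⟨hyK, hyI⟩
      obtain ⟨e, he, k, hk, hek⟩ := exists_smul_eq_of_smul_span p hspan htK
      have he' : (C e : P) * t ∈ w.asIdeal.primeCompl := fun h =>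
        (w.2.mem_or_mem h).elim (fun h1 => he ((hWp w hw).le h1)) ht
      refine ⟨C e * t, he', ?_⟩
      let u : A → FreeMod A a n := fun g => (C e * t) • v g - d • k g
      have hu : ∑ g ∈ s, g • u g ∈ cf (p ^ (m + 1)) := by
        have h3 : ∑ g ∈ s, g • u g =
            d • (e • (t • y) - ∑ g ∈ s, g • k g) - (C e * t : P) • (d • y - ∑ g ∈ s, g • v g) := by
          have he1 : ∀ x : FreeMod A a n, (C e : P) • x = e • x := fun x => algebraMap_smul _ e x
          have a1 : ∑ g ∈ s, g • ((C e * t : P) • v g) = (C e * t : P) • ∑ g ∈ s, g • v g := by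
            rw [Finset.smul_sum]; exact Finset.sum_congr rfl fun g _ => smul_comm _ _ _
          have a2 : ∑ g ∈ s, g • (d • k g) = d • ∑ g ∈ s, g • k g := by
            rw [Finset.smul_sum]; exact Finset.sum_congr rfl fun g _ => smul_comm _ _ _
          simp only [u, smul_sub, Finset.sum_sub_distrib, a1, a2]
          rw [smul_comm (C e * t : P) d y, mul_smul (C e) t y, he1]
          abel
        rw [h3]
        exact sub_mem (Submodule.smul_of_tower_mem _ d hek) (Submodule.smul_mem _ _ hv)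
      have hug : u g ∈ cf p := mem_cf.mpr fun i => hindep (fun g => co i (u g))
        (by simpa [map_sum] using mem_cf.mp hu i) g hg
      refine Submodule.mem_sup.mpr ⟨d • k g, Submodule.smul_of_tower_mem _ d (hk g), u g, hug, add_sub_cancel _ _⟩
    have hall : ∀ g, ∃ S ∈ T, g ∈ s → S • v g ∈ K ⊔ cf p := fun g => by
      by_cases hg : g ∈ s
      · obtain ⟨S, hS, hSv⟩ := hD (v g) fun w hw => hvW w hw g hg
        exact ⟨S, hS, fun _ => hSv⟩
      · exact ⟨1, T.one_mem, fun h => absurd h hg⟩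
    choose S hS hSv using hall
    let S₀ := ∏ g ∈ s, S g
    have hS₀ : ∀ g ∈ s, S₀ • v g ∈ K ⊔ cf p := fun g hg => by
      rw [show S₀ = (∏ k ∈ s.erase g, S k) * S g from (Finset.prod_erase_mul _ _ hg).symm, mul_smul]
      exact Submodule.smul_mem _ _ (hSv g hg)
    choose! kk hkk ww hww hkw using fun g hg => Submodule.mem_sup.mp (hS₀ g hg)
    refine ⟨C d * S₀, T.mul_mem (hp d hd) (T.prod_mem fun g _ => hS g), ?_⟩
    have hsum : ∑ g ∈ s, g • kk g ∈ (p ^ m).map (C : A →+* P) • K := sum_mem fun g hg => by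
      rw [← algebraMap_smul P g]
      exact Submodule.smul_mem_smul (Ideal.mem_map_of_mem _ (hs g hg)) (hkk g hg)
    have hrest : (C d * S₀) • y - ∑ g ∈ s, g • kk g ∈ cf (p ^ (m + 1)) := by
      have h3 : (C d * S₀) • y - ∑ g ∈ s, g • kk g = S₀ • (d • y - ∑ g ∈ s, g • v g) + ∑ g ∈ s, g • ww g := by
        have h4 : S₀ • ∑ g ∈ s, g • v g = ∑ g ∈ s, g • kk g + ∑ g ∈ s, g • ww g := by
          rw [← Finset.sum_add_distrib, Finset.smul_sum]
          exact Finset.sum_congr rfl fun g hg => by rw [smul_comm, ← hkw g hg, smul_add]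
        rw [mul_comm, mul_smul, show (C d : P) • y = d • y from algebraMap_smul _ d y, smul_sub, h4]
        abel
      rw [h3]
      refine add_mem (Submodule.smul_mem _ _ hv) (sum_mem fun g hg => ?_)
      refine mem_cf.mpr fun i => ?_
      rw [map_smul, smul_eq_mul, pow_succ]
      exact Ideal.mul_mem_mul (hs g hg) (mem_cf.mp (hww g hg) i)
    exact Submodule.mem_sup.mpr ⟨∑ g ∈ s, g • kk g,
      Submodule.smul_mono_left (Ideal.map_mono (Ideal.pow_le_self hm.ne')) hsum, (C d * S₀) • y - ∑ g ∈ s, g • kk g,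
      ⟨sub_mem (K.smul_mem _ hyK) (Submodule.smul_le_right hsum), hrest⟩, add_sub_cancel _ _⟩
  obtain ⟨k, hk⟩ := Ideal.exists_pow_inf_eq_pow_smul (p.map (C : A →+* P)) K
  refine mem_flatSet_of_rel_fg K (IsNoetherian.noetherian _) q (fun x hx => ?_)
  have hind : ∀ m : ℕ, x ∈ Sat T (p.map (C : A →+* P) • K ⊔ (K ⊓ cf (p ^ (m + 1)))) := fun m => by
    induction m with
    | zero => exact le_sat _ _ (Submodule.mem_sup_right (by rw [zero_add, pow_one]; exact hx))
    | succ m ih =>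
      refine RGFlatLib.sat_le (sup_le ((le_sup_left).trans (le_sat _ _)) ?_) ih
      exact step (m + 1) m.succ_pos
  obtain ⟨S, hS, hSx⟩ := hind k
  refine ⟨S, hS, ?_⟩
  refine (sup_le le_rfl ?_ : p.map (C : A →+* P) • K ⊔ (K ⊓ cf (p ^ (k + 1))) ≤ p.map (C : A →+* P) • K) hSx
  rw [cf_eq_smul_top, Ideal.map_pow, inf_comm, hk (k + 1) (by omega), Nat.add_sub_cancel_left, pow_one]
  exact Submodule.smul_mono le_rfl inf_le_right

end Groth.Agent.FlatAssLib
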