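import Groth.Agent.FlatAssLib.Descend
import Groth.Agent.AssLib.Basic
import Groth.Agent.FlatLocus.ModFlat
import Groth.Agent.QCohLib.FiniteType

/-!
# Relative associated points and flatness
-/

set_option autoImplicit false
set_option linter.style.haveILetI false
set_option linter.unusedSectionVars false
set_option maxHeartbeats 1000000
set_option backward.isDefEq.respectTransparency false

universe u

open CategoryTheory AlgebraicGeometry Groth.Agent.CAlgFib

noncomputable section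

namespace Groth.Agent.FlatAssLib

/-- An associated point of the fibre gives an associated maximal ideal of the reduced stalk. -/
theorem isAssociatedPrime_stalk_of_fibre {R S O N L : Type u} [CommRing R] [CommRing S] [Algebra R S]
    [AddCommGroup N] [Module S N] [Module R N] [IsScalarTower R S N] (p : Ideal R) [p.IsPrime] (q : Ideal S)
    [q.IsPrime] [q.LiesOver p] [IsNoetherianRing (p.Fiber S)] [CommRing O] [IsLocalRing O] [Algebra S O] [IsLocalization.AtPrime O q]
    [AddCommGroup L] [Module S L] [Module O L] [IsScalarTower S O L]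
    (g : N →ₗ[S] L) [IsLocalizedModule q.primeCompl g]
    (h : FlatCA.fiberIdeal p q ∈ associatedPrimes (p.Fiber S) (FlatCA.fiberMod p S N)) :
    IsAssociatedPrime (IsLocalRing.maximalIdeal O)
      (L ⧸ ((p.map (algebraMap R S)).map (algebraMap S O) • (⊤ : Submodule O L))) := by
  obtain ⟨hQ, hQc⟩ := FibAssLib.fiberIdeal_spec p q
  obtain ⟨y, hy⟩ := (isAssociatedPrime_iff.mp h).2
  obtain ⟨r, hr, m, hm⟩ := exists_factor_mod p N y
  have hrq : ∀ r ∉ p, algebraMap R S r ∉ q := fun r hr h => hr (by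
    rw [Ideal.LiesOver.over (p := p) (P := q)]; exact h)
  -- the colon of the image of `m` is `q`
  have hcol : ∀ c : S, c ∈ q ↔ FlatCA.toFiberMod (S := S) p (N := N) (c • m) = 0 := fun c => by
    rw [map_smul, ← hm, smul_comm, smul_eq, smul_eq p N c, (ι_isUnit (S := S) p hr).smul_eq_zero,
      ← Submodule.mem_bot (p.Fiber S), ← Submodule.mem_colon_singleton, ← hy]
    exact ⟨fun hc => by rw [← hQc] at hc; exact hc, fun hc => by rw [← hQc]; exact hc⟩
  let I : Ideal O := (p.map (algebraMap R S)).map (algebraMap S O)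
  -- sections reduce into the stalk
  have hin : ∀ x : N, x ∈ p.map (algebraMap R S) • (⊤ : Submodule S N) → g x ∈ I • (⊤ : Submodule O L) :=
    fun x hx => Submodule.smul_induction_on hx (fun a ha z _ => by
      rw [map_smul, ← algebraMap_smul O a]
      exact Submodule.smul_mem_smul (Ideal.mem_map_of_mem _ ha) trivial)
      fun a b ha hb => by rw [map_add]; exact add_mem ha hb
  have hback : ∀ z ∈ I • (⊤ : Submodule O L),
      ∃ d ∉ q, ∃ x ∈ p.map (algebraMap R S) • (⊤ : Submodule S N), d • z = g x := by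
    intro z hz
    refine Submodule.smul_induction_on hz (fun a ha w _ => ?_) ?_
    · obtain ⟨⟨⟨b, hb⟩, d⟩, hd⟩ := (IsLocalization.mem_map_algebraMap_iff q.primeCompl O).mp ha
      obtain ⟨⟨x, e⟩, he⟩ := IsLocalizedModule.surj q.primeCompl g w
      refine ⟨d.1 * e.1, q.primeCompl.mul_mem d.2 e.2, b • x, Submodule.smul_mem_smul hb trivial, ?_⟩
      have h1 : algebraMap S O e • w = g x := by rw [algebraMap_smul]; exact he
      rw [map_smul, ← algebraMap_smul O b, ← hd, ← h1, ← algebraMap_smul O (d.1 * e.1), smul_smul, smul_smul,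
        map_mul]
      congr 1
      ring
    · rintro z₁ z₂ ⟨d₁, hd₁, x₁, hx₁, h₁⟩ ⟨d₂, hd₂, x₂, hx₂, h₂⟩
      refine ⟨d₁ * d₂, q.primeCompl.mul_mem hd₁ hd₂, d₂ • x₁ + d₁ • x₂,
        add_mem (Submodule.smul_mem _ _ hx₁) (Submodule.smul_mem _ _ hx₂), ?_⟩
      rw [smul_add, map_add, map_smul, map_smul, ← h₁, ← h₂, smul_smul, smul_smul, mul_comm d₂ d₁]
  have hmax := (IsLocalRing.maximalIdeal.isMaximal O).isPrime
  suffices hc : (⊥ : Submodule O (L ⧸ I • (⊤ : Submodule O L))).colon {Submodule.Quotient.mk (g m)} =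
      IsLocalRing.maximalIdeal O from ⟨hmax, Submodule.Quotient.mk (g m), by rw [hc, hmax.radical]⟩
  refine le_antisymm (fun o ho => ?_) fun o ho => ?_
  · by_contra hu
    rw [Submodule.mem_colon_singleton, Submodule.mem_bot, ← Submodule.Quotient.mk_smul, Submodule.Quotient.mk_eq_zero] at ho
    obtain ⟨v, rfl⟩ := IsLocalRing.notMem_maximalIdeal.mp hu
    have h2 := Submodule.smul_mem _ (↑v⁻¹ : O) ho
    rw [smul_smul, Units.inv_mul, one_smul] at h2
    obtain ⟨d, hd, x, hx, he⟩ := hback _ h2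
    rw [← map_smul] at he
    obtain ⟨⟨t, ht⟩, hte⟩ := IsLocalizedModule.exists_of_eq (S := q.primeCompl) (f := g) he
    have h3 : (t * d) • m ∈ p.map (algebraMap R S) • (⊤ : Submodule S N) := by
      rw [mul_smul, show t • d • m = t • x from hte]
      exact Submodule.smul_mem _ _ hx
    refine (q.primeCompl.mul_mem ht hd) ((hcol _).mpr ((toFiberMod_eq_zero_iff p N _).mpr
      ⟨1, (Ideal.ne_top_iff_one p).mp (Ideal.IsPrime.ne_top ‹_›), ?_⟩))
    rw [map_one, one_smul]
    exact h3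
  · rw [Submodule.mem_colon_singleton, Submodule.mem_bot, ← Submodule.Quotient.mk_smul, Submodule.Quotient.mk_eq_zero]
    rw [← IsLocalization.AtPrime.map_eq_maximalIdeal q O, IsLocalization.mem_map_algebraMap_iff q.primeCompl O] at ho
    obtain ⟨⟨⟨c, hc⟩, d⟩, hd⟩ := ho
    obtain ⟨r', hr', hrc⟩ := (toFiberMod_eq_zero_iff p N _).mp ((hcol c).mp hc)
    have h1 := hin _ hrc
    rw [map_smul, map_smul, ← algebraMap_smul O (algebraMap R S r'), ← algebraMap_smul O c, ← hd, smul_smul] at h1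
    obtain ⟨v, hv⟩ := (IsLocalization.map_units O (⟨_, hrq r' hr'⟩ : q.primeCompl)).mul
      (IsLocalization.map_units O d)
    have h2 := Submodule.smul_mem _ (↑v⁻¹ : O) h1
    rw [smul_smul] at h2
    convert h2 using 2
    rw [show algebraMap S O (algebraMap R S r') * (o * algebraMap S O d) = ↑v * o by rw [hv]; ring,
      ← mul_assoc, Units.inv_mul, one_mul]

/-- Transport of an associated point of the fibre along an equality of primes. -/
theorem mem_assocFibre_congr {R S N : Type u} [CommRing R] [CommRing S] [Algebra R S] [AddCommGroup N] [Module S N]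
    {p p' : Ideal R} [p.IsPrime] [p'.IsPrime] (hp : p = p') {r r' : Ideal S} (hr : r = r')
    (h : FlatCA.fiberIdeal p r ∈ associatedPrimes (p.Fiber S) (FlatCA.fiberMod p S N)) :
    FlatCA.fiberIdeal p' r' ∈ associatedPrimes (p'.Fiber S) (FlatCA.fiberMod p' S N) := by
  subst hp hr
  exact h

variable {X Y : Scheme.{u}} (f : X ⟶ Y)

/-- An associated point of the fibre on an affine chart is a relative associated point. -/
theorem mem_relAss_of_fibre [LocallyOfFiniteType f] (F : X.Modules) [Coh.IsQCoh F] {V : Y.Opens} (hV : IsAffineOpen V)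
    {W : X.Opens} (hW : IsAffineOpen W) (hWV : W ≤ f ⁻¹ᵁ V) (x : X) (hx : x ∈ W) :
    letI := (f.appLE V W hWV).hom.toAlgebra
    FlatCA.fiberIdeal (hV.primeIdealOf ⟨f x, hWV hx⟩).asIdeal (AssLib.pr hW hx) ∈
      associatedPrimes ((hV.primeIdealOf ⟨f x, hWV hx⟩).asIdeal.Fiber Γ(X, W))
        (FlatCA.fiberMod (hV.primeIdealOf ⟨f x, hWV hx⟩).asIdeal Γ(X, W) Γ(F, W)) →
    x ∈ MoreMor.relAss f F := by
  letI := (f.appLE V W hWV).hom.toAlgebra
  intro h
  haveI : Algebra.FiniteType Γ(Y, V) Γ(X, W) := f.finiteType_appLE hV hW hWV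
  letI := Module.compHom Γ(F, W) (f.appLE V W hWV).hom
  haveI : IsScalarTower Γ(Y, V) Γ(X, W) Γ(F, W) := .of_algebraMap_smul fun _ _ => rfl
  letI := Module.compHom (F.presheaf.stalk x) (X.presheaf.germ W x hx).hom
  obtain ⟨g, hg⟩ := GenFree.exists_isLocalizedModule_germ F hW x hx
  haveI := hg
  letI : Algebra Γ(X, W) (X.presheaf.stalk x) := TopCat.Presheaf.algebra_section_stalk X.presheaf ⟨x, hx⟩
  haveI : IsLocalization.AtPrime (X.presheaf.stalk x) (AssLib.pr hW hx) := hW.isLocalization_stalk ⟨x, hx⟩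
  haveI : IsScalarTower Γ(X, W) (X.presheaf.stalk x) (F.presheaf.stalk x) := .of_algebraMap_smul fun _ _ => rfl
  have hyV : f x ∈ V := hWV hx
  letI := TopCat.Presheaf.algebra_section_stalk Y.presheaf ⟨f x, hyV⟩
  haveI : IsLocalization.AtPrime (Y.presheaf.stalk (f x)) (hV.primeIdealOf ⟨f x, hyV⟩).asIdeal :=
    hV.isLocalization_stalk ⟨f x, hyV⟩
  haveI : (AssLib.pr hW hx).LiesOver (hV.primeIdealOf ⟨f x, hyV⟩).asIdeal :=
    ⟨congr($(IsAffineOpen.comap_primeIdealOf_appLE V hV W hW hWV hx).1).symm⟩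
  have hI : ((hV.primeIdealOf ⟨f x, hyV⟩).asIdeal.map (algebraMap Γ(Y, V) Γ(X, W))).map
      (algebraMap Γ(X, W) (X.presheaf.stalk x)) =
      (IsLocalRing.maximalIdeal (Y.presheaf.stalk (f x))).map (f.stalkMap x).hom := by
    rw [← IsLocalization.AtPrime.map_eq_maximalIdeal (hV.primeIdealOf ⟨f x, hyV⟩).asIdeal (Y.presheaf.stalk (f x)),
      Ideal.map_map, Ideal.map_map]
    congr 1
    refine RingHom.ext fun r => ?_
    show X.presheaf.germ W x hx (f.appLE V W hWV r) = f.stalkMap x (Y.presheaf.germ V (f x) hyV r)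
    rw [Scheme.Hom.germ_stalkMap_apply, Scheme.Hom.appLE, CommRingCat.comp_apply, X.presheaf.germ_res_apply]
  have h' := isAssociatedPrime_stalk_of_fibre (O := X.presheaf.stalk x) _ (AssLib.pr hW hx) g h
  rw [hI] at h'
  exact h'

/-- Flatness passes to generisations. -/
theorem isFlatOverAt_of_specializes (F : X.Modules) [Coh.IsQCoh F] {x x' : X} (h : x ⤳ x')
    (hx' : FlatMod.IsFlatOverAt f F x') : FlatMod.IsFlatOverAt f F x := by
  obtain ⟨_, ⟨V : Y.Opens, (hV : IsAffineOpen V), rfl⟩, hxV, -⟩ :=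
    Y.isBasis_affineOpens.exists_subset_of_mem_open (Set.mem_univ (f x')) isOpen_univ
  obtain ⟨_, ⟨W : X.Opens, (hW : IsAffineOpen W), rfl⟩, hxW, hWV⟩ :=
    X.isBasis_affineOpens.exists_subset_of_mem_open (a := x') (u := ↑(f ⁻¹ᵁ V)) hxV (f ⁻¹ᵁ V).2
  have hx : x ∈ W := h.mem_open W.2 hxW
  letI := (f.appLE V W hWV).hom.toAlgebra
  letI := Module.compHom Γ(F, W) (f.appLE V W hWV).hom
  haveI : IsScalarTower Γ(Y, V) Γ(X, W) Γ(F, W) := .of_algebraMap_smul fun _ _ => rfl
  have hle := (AssLib.specializes_iff hW hxW hx).mp h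
  haveI := (FlatLocus.isFlatOverAt_iff f F hV hW hWV x' hxW).mp hx'
  exact (FlatLocus.isFlatOverAt_iff f F hV hW hWV x hx).mpr
    (FlatLocus.flat_localized_of_le (AssLib.pr hW hxW).primeCompl (AssLib.pr hW hx).primeCompl
      (fun a ha ha' => ha (hle ha')) (LocalizedModule.mkLinearMap (AssLib.pr hW hxW).primeCompl Γ(F, W))
      (LocalizedModule.mkLinearMap (AssLib.pr hW hx).primeCompl Γ(F, W)))

/-- Flatness at the relative associated points is flatness. -/
theorem isFlatOver_of_relAss [LocallyOfFiniteType f] (F : X.Modules) [Coh.IsQCoh F] (hF : CohB1.IsFT F)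
    (h : ∀ x ∈ MoreMor.relAss f F, FlatMod.IsFlatOverAt f F x) : FlatMod.IsFlatOver f F := by
  intro y
  obtain ⟨_, ⟨V : Y.Opens, (hV : IsAffineOpen V), rfl⟩, hyV, -⟩ :=
    Y.isBasis_affineOpens.exists_subset_of_mem_open (Set.mem_univ (f y)) isOpen_univ
  obtain ⟨_, ⟨W : X.Opens, (hW : IsAffineOpen W), rfl⟩, hyW, hWV⟩ :=
    X.isBasis_affineOpens.exists_subset_of_mem_open (a := y) (u := ↑(f ⁻¹ᵁ V)) hyV (f ⁻¹ᵁ V).2
  have hft := f.finiteType_appLE hV hW hWV
  letI := (f.appLE V W hWV).hom.toAlgebra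
  haveI : Algebra.FiniteType Γ(Y, V) Γ(X, W) := hft
  letI := Module.compHom Γ(F, W) (f.appLE V W hWV).hom
  haveI : IsScalarTower Γ(Y, V) Γ(X, W) Γ(F, W) := .of_algebraMap_smul fun _ _ => rfl
  haveI := QCohLib.finite_sections F hF hW
  haveI : (AssLib.pr hW hyW).LiesOver (hV.primeIdealOf ⟨f y, hWV hyW⟩).asIdeal :=
    ⟨congr($(IsAffineOpen.comap_primeIdealOf_appLE V hV W hW hWV hyW).1).symm⟩
  refine (FlatLocus.isFlatOverAt_iff f F hV hW hWV y hyW).mpr
    (flatAt_of_assBelow (hV.primeIdealOf ⟨f y, hWV hyW⟩).asIdeal _ fun P hP r _ hr => ?_)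
  haveI := hP.1.1
  let x := AssLib.pt hW ⟨r, ‹_›⟩
  have hx : x ∈ W := AssLib.pt_mem hW _
  have hpr : AssLib.pr hW hx = r := AssLib.pr_pt hW _
  have hlo := FibAssLib.comap_liesOver (hV.primeIdealOf ⟨f y, hWV hyW⟩).asIdeal P
  have hp : (hV.primeIdealOf ⟨f x, hWV hx⟩).asIdeal = (hV.primeIdealOf ⟨f y, hWV hyW⟩).asIdeal := by
    rw [← congr($(IsAffineOpen.comap_primeIdealOf_appLE V hV W hW hWV hx).1), PrimeSpectrum.comap_asIdeal]
    change (AssLib.pr hW hx).comap _ = _
    rw [hpr, hr]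
    exact hlo.over.symm
  have hflat := h x (mem_relAss_of_fibre f F hV hW hWV x hx (mem_assocFibre_congr hp.symm hpr.symm
    (by rw [FibAssLib.eq_fiberIdeal_of_comap _ hr.symm]; exact hP.1)))
  have h2 := (FlatLocus.isFlatOverAt_iff f F hV hW hWV x hx).mp hflat
  show Module.Flat Γ(Y, V) (LocalizedModule r.primeCompl Γ(F, W))
  convert h2 using 3 <;> exact hpr.symm

end Groth.Agent.FlatAssLib
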