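import Groth.Agent.RGFlatLib.Away
import Groth.Agent.FibAssLib.Detect
import Groth.Agent.FlatAssLib.Noeth

/-!
# Flatness from flatness at the associated points of the fibre
-/

set_option autoImplicit false
set_option linter.style.haveILetI false
set_option linter.unusedSectionVars false
set_option maxHeartbeats 1000000
set_option backward.isDefEq.respectTransparency false

universe u

open MvPolynomial Groth.Agent.GenFree Groth.Agent.FlatLocus

noncomputable section

namespace Groth.Agent.FlatAssLib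

variable {R : Type u} [CommRing R] {a n : ℕ}

/-- Membership in relations plus `p` in terms of the quotient. -/
theorem genMap_mem_iff {S N : Type u} [CommRing S] [Algebra R S] [Algebra (MvPolynomial (Fin n) R) S]
    [AddCommGroup N] [Module S N] [Module R N] [IsScalarTower R S N] [Module (MvPolynomial (Fin n) R) N]
    [IsScalarTower (MvPolynomial (Fin n) R) S N] [IsScalarTower R (MvPolynomial (Fin n) R) N]
    (q₀ : (Fin a → S) →ₗ[S] N) (hu : Function.Surjective (RGFlatLib.genMap (R := R) (n := n) q₀))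
    (p : Ideal R) (v : FreeMod R a n) :
    v ∈ LinearMap.ker (RGFlatLib.genMap q₀) ⊔ cf p ↔
      RGFlatLib.genMap q₀ v ∈ p.map (algebraMap R S) • (⊤ : Submodule S N) := by
  rw [← LocFlat.mem_smul_top_iff (R := R) (S := S), LocFlat.mem_smul_top_iff (R := R) (S := MvPolynomial (Fin n) R),
    MvPolynomial.algebraMap_eq,
    show (⊤ : Submodule (MvPolynomial (Fin n) R) N) = (⊤ : Submodule _ (FreeMod R a n)).map (RGFlatLib.genMap q₀) by
      rw [Submodule.map_top, LinearMap.range_eq_top.mpr hu], ← Submodule.map_smul'', Submodule.mem_map]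
  have hcf : (cf p : Submodule (MvPolynomial (Fin n) R) (FreeMod R a n)) = p.map (C : R →+* MvPolynomial (Fin n) R) • ⊤ :=
    cf_eq_smul_top p
  rw [hcf]
  constructor
  · intro h
    obtain ⟨k, hk, y, hy, rfl⟩ := Submodule.mem_sup.mp h
    exact ⟨y, hy, by rw [map_add, LinearMap.mem_ker.mp hk, zero_add]⟩
  · rintro ⟨y, hy, hyv⟩
    exact Submodule.mem_sup.mpr ⟨v - y, LinearMap.mem_ker.mpr (by rw [map_sub, hyv, sub_self]), y, hy, sub_add_cancel _ _⟩

/-- Polynomials over a residue field lift up to a scalar. -/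
theorem exists_map_eq_smul (p : Ideal R) [p.IsPrime] (c : MvPolynomial (Fin n) p.ResidueField) :
    ∃ d ∉ p, ∃ c₀ : MvPolynomial (Fin n) R,
      MvPolynomial.map (algebraMap R p.ResidueField) c₀ = C (algebraMap R p.ResidueField d) * c := by
  induction c using MvPolynomial.induction_on with
  | C x =>
    obtain ⟨d, hd, r, hdr⟩ := RGFlatLib.exists_smul_eq_algebraMap p x
    exact ⟨d, hd, C r, by rw [map_C, ← map_mul, hdr]⟩
  | add f g hf hg =>
    obtain ⟨d, hd, f₀, hf⟩ := hf
    obtain ⟨e, he, g₀, hg⟩ := hg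
    refine ⟨d * e, fun h => (Ideal.IsPrime.mem_or_mem ‹_› h).elim hd he, C e * f₀ + C d * g₀, ?_⟩
    rw [map_add, map_mul, map_mul, map_C, map_C, hf, hg, map_mul, map_mul]
    ring
  | mul_X f i hf =>
    obtain ⟨d, hd, f₀, hf⟩ := hf
    exact ⟨d, hd, f₀ * X i, by rw [map_mul, map_X, hf, mul_assoc]⟩

theorem exists_fg_sup {R0 : Type u} [CommRing R0] [Algebra R0 R] {ι : Type*} (t : Finset ι) (S : ι → Subalgebra R0 R)
    (h : ∀ i ∈ t, (S i).FG) : ∃ A : Subalgebra R0 R, A.FG ∧ ∀ i ∈ t, S i ≤ A := by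
  classical
  induction t using Finset.induction with
  | empty => exact ⟨⊥, Subalgebra.fg_bot, fun i hi => absurd hi (Finset.notMem_empty i)⟩
  | insert j t hj ih =>
    obtain ⟨A, hA, hle⟩ := ih fun i hi => h i (Finset.mem_insert_of_mem hi)
    refine ⟨A ⊔ S j, hA.sup (h j (Finset.mem_insert_self j t)), fun i hi => ?_⟩
    rcases Finset.mem_insert.mp hi with rfl | hi
    · exact le_sup_right
    · exact (hle i hi).trans le_sup_left

variable {A : Type u} [CommRing A] [Algebra A R]

/-- Detection on a fibre descends to a smaller ring. -/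
theorem detect_descend_aux {L : Type u} [Field L] (ρ : MvPolynomial (Fin n) R →+* L) (N : Submodule (MvPolynomial (Fin n) A) (FreeMod A a n))
    (K : Submodule (MvPolynomial (Fin n) R) (FreeMod R a n)) (Q : PrimeSpectrum (MvPolynomial (Fin n) R))
    (hle : locN R N ≤ K) (hgen : locN (Q.asIdeal.comap C).ResidueField (locN R N) = locN (Q.asIdeal.comap C).ResidueField K)
    (W : Set (PrimeSpectrum (MvPolynomial (Fin n) R))) (hWp : ∀ w ∈ W, w.asIdeal.comap C = Q.asIdeal.comap C)
    (hdet : ∀ v, (∀ w ∈ W, v ∈ Sat w.asIdeal.primeCompl (K ⊔ cf (Q.asIdeal.comap C))) →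
      v ∈ Sat Q.asIdeal.primeCompl (K ⊔ cf (Q.asIdeal.comap C)))
    (v : FreeMod A a n)
    (hρ : ∀ x, ρ x = 0 ↔ x ∈ Q.asIdeal)
    (hv : ∀ w ∈ W, v ∈ Sat (PrimeSpectrum.comap (MvPolynomial.map (algebraMap A R)) w).asIdeal.primeCompl
      (N ⊔ cf ((Q.asIdeal.comap C).comap (algebraMap A R)))) :
    v ∈ Sat (PrimeSpectrum.comap (MvPolynomial.map (algebraMap A R)) Q).asIdeal.primeCompl
      (N ⊔ cf ((Q.asIdeal.comap C).comap (algebraMap A R))) := by
  let p := Q.asIdeal.comap (C : R →+* MvPolynomial (Fin n) R)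
  let p0 := p.comap (algebraMap A R)
  obtain ⟨d, hd, hdv⟩ := hdet (phi R v) fun w hw => by
    obtain ⟨t, ht, htv⟩ := hv w hw
    refine ⟨MvPolynomial.map (algebraMap A R) t, ht, ?_⟩
    rw [← phi_smul]
    obtain ⟨x, hx, y, hy, hxy⟩ := Submodule.mem_sup.mp htv
    rw [← hxy, map_add]
    exact add_mem (Submodule.mem_sup_left (hle (phi_mem R N hx)))
      (Submodule.mem_sup_right (mem_cf.mpr fun i => by rw [co_phi]; exact mem_cf.mp hy i))
  letI : Algebra R L := (ρ.comp C).toAlgebra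
  letI : Algebra A L := ((ρ.comp C).comp (algebraMap A R)).toAlgebra
  haveI : IsScalarTower A R L := .of_algebraMap_eq fun _ => rfl
  letI : Algebra p.ResidueField L := (Ideal.ResidueField.lift p (algebraMap R L)
    (fun c hc => (hρ _).mpr hc) (fun c hc => isUnit_iff_ne_zero.mpr fun h => hc ((hρ _).mp h))).toAlgebra
  haveI : IsScalarTower R p.ResidueField L :=
    .of_algebraMap_eq fun c => (Ideal.ResidueField.lift_algebraMap _ _ _ _ c).symm
  letI : Algebra p0.ResidueField L := (Ideal.ResidueField.lift p0 (algebraMap A L)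
    (fun c hc => (hρ _).mpr hc) (fun c hc => isUnit_iff_ne_zero.mpr fun h => hc ((hρ _).mp h))).toAlgebra
  haveI : IsScalarTower A p0.ResidueField L :=
    .of_algebraMap_eq fun c => (Ideal.ResidueField.lift_algebraMap _ _ _ _ c).symm
  let ρ₀ : MvPolynomial (Fin n) p0.ResidueField →+* L :=
    eval₂Hom (algebraMap p0.ResidueField L) fun i => ρ (X i)
  have hker : p ≤ RingHom.ker (algebraMap R L) := fun c hc => (hρ _).mpr hc
  have h1 : MvPolynomial.map (algebraMap R L) d • phi L v ∈ locN L (locN p0.ResidueField N) := by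
    have h2 := RGFlatLib.phi_mem_locN_of_sup L hker K hdv
    rw [phi_smul, phi_phi, ← locN_locN (R := L) p.ResidueField K, ← hgen, locN_locN, locN_locN] at h2
    rwa [locN_locN]
  rw [← phi_phi (A := p0.ResidueField) (R := L) v] at h1
  have hne : eval (fun i => ρ₀ (X i)) (MvPolynomial.map (algebraMap R L) d) ≠ 0 := by
    rw [eval_map, show (fun i => ρ₀ (X i)) = fun i => ρ (X i) from funext fun i => by simp [ρ₀]]
    rw [show eval₂ (algebraMap R L) (fun i => ρ (X i)) d = ρ d from DFunLike.congr_fun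
      (MvPolynomial.ringHom_ext (f := eval₂Hom (algebraMap R L) fun i => ρ (X i)) (g := ρ)
        (fun r => by simp; rfl) fun i => by simp) d]
    exact fun h0 => hd ((hρ d).mp h0)
  obtain ⟨c, hc, hc0⟩ := RGFlatLib.exists_smul_mem_of_ringHom _ _ _ ρ₀ (fun r => by simp [ρ₀]) h1 hne
  obtain ⟨e, he, c₀, hc₀⟩ := exists_map_eq_smul p0 c
  have h3 : phi p0.ResidueField (c₀ • v) ∈ locN p0.ResidueField N := by
    rw [phi_smul, hc₀, mul_smul]
    exact Submodule.smul_mem _ _ hc
  obtain ⟨e', he', h4⟩ := RGFlatLib.exists_smul_mem_sup_cf p0 N h3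
  refine ⟨C e' * c₀, fun hmem => ?_, by rw [mul_smul]; exact h4⟩
  replace hmem : MvPolynomial.map (algebraMap A R) (C e' * c₀) ∈ Q.asIdeal := hmem
  rw [map_mul, map_C] at hmem
  rcases Q.2.mem_or_mem hmem with h | h
  · exact he' h
  · have h5 : ρ₀ (MvPolynomial.map (algebraMap A p0.ResidueField) c₀) = ρ (MvPolynomial.map (algebraMap A R) c₀) :=
      DFunLike.congr_fun (MvPolynomial.ringHom_ext (f := ρ₀.comp (MvPolynomial.map (algebraMap A p0.ResidueField)))
        (g := ρ.comp (MvPolynomial.map (algebraMap A R)))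
        (fun r => by simp [ρ₀, ← IsScalarTower.algebraMap_apply]; rfl) fun i => by simp [ρ₀]) c₀
    rw [(hρ _).mpr h, hc₀, map_mul, mul_eq_zero] at h5
    rcases h5 with h5 | h5
    · refine he ?_
      rw [eval₂Hom_C, ← IsScalarTower.algebraMap_apply] at h5
      exact (hρ _).mp h5
    · exact hc0 h5

/-- Detection on a fibre descends to a smaller ring. -/
theorem detect_descend (N : Submodule (MvPolynomial (Fin n) A) (FreeMod A a n))
    (K : Submodule (MvPolynomial (Fin n) R) (FreeMod R a n)) (Q : PrimeSpectrum (MvPolynomial (Fin n) R))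
    (hle : locN R N ≤ K) (hgen : locN (Q.asIdeal.comap C).ResidueField (locN R N) = locN (Q.asIdeal.comap C).ResidueField K)
    (W : Set (PrimeSpectrum (MvPolynomial (Fin n) R))) (hWp : ∀ w ∈ W, w.asIdeal.comap C = Q.asIdeal.comap C)
    (hdet : ∀ v, (∀ w ∈ W, v ∈ Sat w.asIdeal.primeCompl (K ⊔ cf (Q.asIdeal.comap C))) →
      v ∈ Sat Q.asIdeal.primeCompl (K ⊔ cf (Q.asIdeal.comap C)))
    (v : FreeMod A a n)
    (hv : ∀ w ∈ W, v ∈ Sat (PrimeSpectrum.comap (MvPolynomial.map (algebraMap A R)) w).asIdeal.primeCompl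
      (N ⊔ cf ((Q.asIdeal.comap C).comap (algebraMap A R)))) :
    v ∈ Sat (PrimeSpectrum.comap (MvPolynomial.map (algebraMap A R)) Q).asIdeal.primeCompl
      (N ⊔ cf ((Q.asIdeal.comap C).comap (algebraMap A R))) :=
  detect_descend_aux ((algebraMap (MvPolynomial (Fin n) R ⧸ Q.asIdeal)
      (FractionRing (MvPolynomial (Fin n) R ⧸ Q.asIdeal))).comp (Ideal.Quotient.mk Q.asIdeal))
    N K Q hle hgen W hWp hdet v
    (fun x => by rw [RingHom.comp_apply, IsFractionRing.to_map_eq_zero_iff, Ideal.Quotient.eq_zero_iff_mem]) hv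

/-- Flatness at `Q` from flatness at points detecting the fibre, for finitely presented quotients. -/
theorem mem_flatSet_of_detect_fg (K K' : Submodule (MvPolynomial (Fin n) R) (FreeMod R a n)) (hfg : K'.FG)
    (Q : PrimeSpectrum (MvPolynomial (Fin n) R)) (hle : K' ≤ K) (p : Ideal R) [p.IsPrime] (hp : Q.asIdeal.comap C = p)
    (hgen : locN p.ResidueField K' = locN p.ResidueField K)
    (W : Finset (PrimeSpectrum (MvPolynomial (Fin n) R))) (hW : ∀ w ∈ W, w ∈ flatSet K')
    (hWp : ∀ w ∈ W, w.asIdeal.comap C = Q.asIdeal.comap C)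
    (hdet : ∀ v, (∀ w ∈ W, v ∈ Sat w.asIdeal.primeCompl (K ⊔ cf (Q.asIdeal.comap C))) →
      v ∈ Sat Q.asIdeal.primeCompl (K ⊔ cf (Q.asIdeal.comap C))) : Q ∈ flatSet K' := by
  subst hp
  classical
  obtain ⟨S₀, N₀, hS₀, hN₀⟩ := exists_base K' hfg
  haveI := hS₀
  subst hN₀
  choose! S hS hflat using fun w (hw : w ∈ W) => exists_subalgebra N₀ w (mem_flatSet_iff.mp (hW w hw) _)
  obtain ⟨A, hA, hSA⟩ := exists_fg_sup W S hS
  haveI : IsNoetherianRing A := isNoetherianRing_of_fg hA
  rw [← locN_locN (R := R) A N₀]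
  refine mem_flatSet_of_comap A _ Q (mem_flatSet_of_detect (locN A N₀) _
    (PrimeSpectrum.comap (MvPolynomial.map (algebraMap A R)) '' (W : Set _)) ?_ ?_ fun v hv => ?_)
  · rintro _ ⟨w, hw, rfl⟩
    letI : Algebra (S w) A := (Subalgebra.inclusion (hSA w hw)).toRingHom.toAlgebra
    haveI : IsScalarTower S₀ (S w) A := .of_algebraMap_eq fun _ => rfl
    rw [← locN_locN (R := A) (S w) N₀]
    refine mem_flatSet_of_comap (S w) _ _ ?_
    rw [← PrimeSpectrum.comap_comp_apply, show (MvPolynomial.map (algebraMap A R)).comp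
      (MvPolynomial.map (σ := Fin n) (algebraMap (S w) A)) = MvPolynomial.map (algebraMap (S w) R) from
      MvPolynomial.ringHom_ext (fun c => by simp; rfl) fun i => by simp]
    exact hflat w hw
  · rintro _ ⟨w, hw, rfl⟩
    ext r
    simp only [PrimeSpectrum.comap_asIdeal, Ideal.mem_comap, map_C]
    exact SetLike.ext_iff.mp (hWp w hw) (algebraMap A R r)
  · have hcomap : (PrimeSpectrum.comap (MvPolynomial.map (algebraMap A R)) Q).asIdeal.comap C =
        (Q.asIdeal.comap C).comap (algebraMap A R) := by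
      ext r
      simp only [PrimeSpectrum.comap_asIdeal, Ideal.mem_comap, map_C]
    rw [hcomap] at hv ⊢
    exact detect_descend (locN A N₀) K Q (by rw [locN_locN]; exact hle) (by rw [locN_locN (R := R) A N₀]; exact hgen)
      (W : Set _) hWp hdet v fun w hw => hv _ ⟨w, hw, rfl⟩

variable {S N : Type u} [CommRing S] [Algebra R S] [Algebra.FiniteType R S] [AddCommGroup N]
  [Module S N] [Module R N] [IsScalarTower R S N] [Module.Finite S N]

/-- Flatness at a point from flatness at the associated points of its fibre generalising it. -/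
theorem flatAt_of_assBelow (p : Ideal R) [p.IsPrime] (q : Ideal S) [q.IsPrime] [q.LiesOver p]
    (h : ∀ P ∈ FibAssLib.assBelow p N q, ∀ (r : Ideal S) [r.IsPrime], r = P.comap (CAlgFib.ι p) → FlatCA.FlatAt R r N) :
    FlatCA.FlatAt R q N := by
  classical
  obtain ⟨n, π, hπ⟩ := Algebra.FiniteType.iff_quotient_mvPolynomial''.mp ‹Algebra.FiniteType R S›
  let P := MvPolynomial (Fin n) R
  letI : Algebra P S := π.toRingHom.toAlgebra
  haveI : IsScalarTower R P S := .of_algebraMap_eq fun r => (π.commutes r).symm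
  letI : Module P N := Module.compHom N π.toRingHom
  haveI : IsScalarTower P S N := .of_algebraMap_smul fun _ _ => rfl
  haveI : IsScalarTower R P N := .of_algebraMap_smul fun r m => by
    show π (algebraMap R P r) • m = r • m
    rw [π.commutes, algebraMap_smul]
  obtain ⟨a, q₀, hq₀⟩ := Module.Finite.exists_fin' S N
  have hu := RGFlatLib.genMap_surjective (R := R) hπ q₀ hq₀
  let u := RGFlatLib.genMap (R := R) (n := n) q₀
  let K := LinearMap.ker u
  let Q : PrimeSpectrum P := PrimeSpectrum.comap (algebraMap P S) ⟨q, ‹_›⟩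
  suffices hQ : Q ∈ flatSet K from (RGFlatLib.flat_iff_mem_flatSet hπ q₀ hq₀ ⟨q, ‹_›⟩).mpr hQ
  have hQp : Q.asIdeal.comap C = p := by
    rw [Ideal.LiesOver.over (p := p) (P := q)]
    ext r
    show π (C r) ∈ q ↔ algebraMap R S r ∈ q
    rw [← π.commutes r]; rfl
  have hfin : (FibAssLib.assBelow p N q).Finite :=
    (associatedPrimes.finite (p.Fiber S) (FlatCA.fiberMod p S N)).subset fun _ h => h.1
  let toP : hfin.toFinset → PrimeSpectrum P := fun P' =>
    haveI := (hfin.mem_toFinset.mp P'.2).1.1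
    PrimeSpectrum.comap (algebraMap P S) ⟨P'.1.comap (CAlgFib.ι p), inferInstance⟩
  let W := Finset.univ.image toP
  have hWp : ∀ w ∈ W, w.asIdeal.comap C = p := by
    intro w hw
    obtain ⟨P', -, rfl⟩ := Finset.mem_image.mp hw
    haveI := (hfin.mem_toFinset.mp P'.2).1.1
    haveI := FibAssLib.comap_liesOver p P'.1
    ext r
    show π (C r) ∈ P'.1.comap (CAlgFib.ι p) ↔ r ∈ p
    rw [show π (C r) = algebraMap R S r from π.commutes r]
    exact (SetLike.ext_iff.mp (Ideal.LiesOver.over (p := p) (P := P'.1.comap (CAlgFib.ι p))) r).symm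
  have hWflat : ∀ w ∈ W, w ∈ flatSet K := by
    intro w hw
    obtain ⟨P', -, rfl⟩ := Finset.mem_image.mp hw
    haveI := (hfin.mem_toFinset.mp P'.2).1.1
    exact (RGFlatLib.flat_iff_mem_flatSet hπ q₀ hq₀ ⟨P'.1.comap (CAlgFib.ι p), inferInstance⟩).mp
      (h P'.1 (hfin.mem_toFinset.mp P'.2) _ rfl)
  obtain ⟨Kp, hKp, hKple, hgenp⟩ := RGFlatLib.exists_residue_generators K p
  choose! Kw hKw hKwle hKwsat hKwflat using fun w (hw : w ∈ W) => RGFlatLib.exists_fg_le_sat K w (hWflat w hw)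
  let K' := Kp ⊔ W.sup Kw
  have hfg : K'.FG := hKp.sup (Submodule.fg_finset_sup W Kw hKw)
  have hle : K' ≤ K := sup_le hKple (Finset.sup_le hKwle)
  have hsat : ∀ w ∈ W, K ≤ Sat w.asIdeal.primeCompl K' := fun w hw =>
    (hKwsat w hw).trans (sat_mono le_rfl (le_sup_of_le_right (Finset.le_sup hw)))
  have hW' : ∀ w ∈ W, w ∈ flatSet K' := fun w hw =>
    RGFlatLib.mem_flatSet_congr (hle.trans (le_sat _ _)) (hsat w hw) (hWflat w hw)
  have hgen : locN p.ResidueField K' = locN p.ResidueField K :=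
    le_antisymm (RGFlatLib.locN_mono _ hle) (hgenp.ge.trans (RGFlatLib.locN_mono _ le_sup_left))
  have hmap : ∀ v (c : P), u (c • v) = π c • u v := fun v c => map_smul u c v
  have hdet : ∀ v, (∀ w ∈ W, v ∈ Sat w.asIdeal.primeCompl (K ⊔ cf p)) → v ∈ Sat Q.asIdeal.primeCompl (K ⊔ cf p) := by
    intro v hv
    obtain ⟨s, hsI, hs⟩ := FibAssLib.exists_mem_regular p N q
      ((p.map (algebraMap R S) • (⊤ : Submodule S N)).colon {u v}) fun P' hP' hle' => by
      obtain ⟨t, ht, htv⟩ := hv (toP ⟨P', hfin.mem_toFinset.mpr hP'⟩) (Finset.mem_image_of_mem _ (Finset.mem_univ _))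
      rw [genMap_mem_iff q₀ hu] at htv
      exact ht (hle' (Submodule.mem_colon_singleton.mpr (hmap v t ▸ htv)))
    obtain ⟨d, hd, hdv⟩ := FibAssLib.regular_mod p N q hs (u v) (c := 1)
      ((Ideal.ne_top_iff_one q).mp (Ideal.IsPrime.ne_top ‹_›)) (by rw [one_smul]; exact Submodule.mem_colon_singleton.mp hsI)
    obtain ⟨d, rfl⟩ := hπ d
    exact ⟨d, hd, (genMap_mem_iff q₀ hu p _).mpr (hmap v d ▸ hdv)⟩
  have hQflat : Q ∈ flatSet K' := by
    refine mem_flatSet_of_detect_fg K K' hfg Q hle p hQp hgen W hW' (fun w hw => (hWp w hw).trans hQp.symm) ?_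
    rw [hQp]
    exact hdet
  refine RGFlatLib.mem_flatSet_congr (fun x hx => ?_) (hle.trans (le_sat _ _)) hQflat
  obtain ⟨s, hsI, hs⟩ := FibAssLib.exists_mem_regular p N q ((K'.colon {x}).map (algebraMap P S)) fun P' hP' hle' => by
    obtain ⟨t, ht, htx⟩ := hsat (toP ⟨P', hfin.mem_toFinset.mpr hP'⟩) (Finset.mem_image_of_mem _ (Finset.mem_univ _)) hx
    exact ht (hle' (Ideal.mem_map_of_mem _ (Submodule.mem_colon_singleton.mpr htx)))
  obtain ⟨s, hsx, rfl⟩ := (Ideal.mem_map_iff_of_surjective _ hπ).mp hsI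
  refine RGFlatLib.mem_sat_of_regular_fibre hfg Q hQflat p hQp s (fun v c hc hcv => ?_)
    (Submodule.mem_colon_singleton.mp hsx)
  have h1 : c • s • v ∈ K ⊔ cf p := (sup_le_sup hle le_rfl : K' ⊔ cf p ≤ K ⊔ cf p) hcv
  rw [genMap_mem_iff q₀ hu, hmap, hmap] at h1
  obtain ⟨d, hd, hdv⟩ := FibAssLib.regular_mod p N q hs (u v) (c := π c) hc h1
  obtain ⟨d, rfl⟩ := hπ d
  rw [← hmap, ← genMap_mem_iff q₀ hu] at hdv
  have h2 := RGFlatLib.phi_mem_locN_of_sup p.ResidueField (by rw [Ideal.ker_algebraMap_residueField]) K hdv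
  rw [← hgen] at h2
  obtain ⟨e, he, h3⟩ := RGFlatLib.exists_smul_mem_sup_cf p K' h2
  refine ⟨C e * d, fun hmem => ?_, by rw [mul_smul]; exact h3⟩
  rcases Q.2.mem_or_mem hmem with h4 | h4
  · exact he (hQp.le h4)
  · exact hd h4

end Groth.Agent.FlatAssLib
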